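import Cfsg.Agent.Lib.PlaneFour.Coord

/-!
Quadrangles and hyperovals of a plane of order four.
-/

set_option autoImplicit false
set_option maxRecDepth 10000

namespace Cfsg.Agent.PlaneFour.Hyperovals

open Cfsg Cfsg.Agent.PlaneFour.Data Cfsg.Agent.PlaneFour.Model Cfsg.Agent.PlaneFour.Coord Finset

/-- The masks of the `k`-sets among the first `n`. -/
def subsK : ℕ → ℕ → List ℕ
  | 0, 0 => [0]
  | 0, _ + 1 => []
  | _ + 1, 0 => [0]
  | n + 1, k + 1 => subsK n (k + 1) ++ (subsK n k).map fun x => x ||| 1 <<< n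

theorem subsK_lt : ∀ n k, ∀ m ∈ subsK n k, m < 2 ^ n
  | 0, 0, m, h => by simp [subsK] at h; simp [h]
  | 0, k + 1, m, h => by simp [subsK] at h
  | n + 1, 0, m, h => by simp [subsK] at h; simp [h]
  | n + 1, k + 1, m, h => by
    simp only [subsK, List.mem_append, List.mem_map] at h
    rcases h with h | ⟨x, hx, rfl⟩
    · exact (subsK_lt n _ m h).trans (Nat.pow_lt_pow_right (by norm_num) (by omega))
    · exact Nat.or_lt_two_pow ((subsK_lt n k x hx).trans (Nat.pow_lt_pow_right (by norm_num) (by omega)))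
        (by rw [Nat.one_shiftLeft]; exact Nat.pow_lt_pow_right (by norm_num) (by omega))

theorem subsK_nodup : ∀ n k, (subsK n k).Nodup
  | 0, 0 => List.nodup_singleton 0
  | 0, k + 1 => List.nodup_nil
  | n + 1, 0 => List.nodup_singleton 0
  | n + 1, k + 1 => by
    rw [subsK]
    have hbit : ∀ x ∈ subsK n k, (x ||| 1 <<< n).testBit n = true ∧ x.testBit n = false := fun x hx =>
      ⟨by simp [Nat.one_shiftLeft], Nat.testBit_lt_two_pow (subsK_lt n k x hx)⟩
    refine List.Nodup.append (subsK_nodup n _) ((subsK_nodup n k).map_on fun x hx y hy e => ?_) ?_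
    · refine Nat.eq_of_testBit_eq fun j => ?_
      by_cases hj : j = n
      · subst hj; rw [(hbit x hx).2, (hbit y hy).2]
      · have := congrArg (fun m => m.testBit j) e
        simpa [Nat.one_shiftLeft, Nat.testBit_two_pow, Ne.symm hj] using this
    · intro m hm hm'
      obtain ⟨x, hx, rfl⟩ := List.mem_map.1 hm'
      have h1 := (hbit x hx).1
      rw [Nat.testBit_lt_two_pow (subsK_lt n _ _ hm)] at h1
      exact absurd h1 (by simp)

theorem mem_subsK : ∀ (n k : ℕ) (s : Finset ℕ), s ⊆ range n → s.card = k →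
    ∃ m ∈ subsK n k, ∀ i, m.testBit i = true ↔ i ∈ s
  | 0, k, s, hs, hk => by
    have : s = ∅ := subset_empty.1 (by simpa using hs)
    subst this
    simp only [card_empty] at hk
    subst hk
    exact ⟨0, List.mem_singleton.2 rfl, fun i => by simp⟩
  | n + 1, 0, s, _, hk => ⟨0, List.mem_singleton.2 rfl, fun i => by simp [Finset.card_eq_zero.1 hk]⟩
  | n + 1, k + 1, s, hs, hk => by
    have hs' : ∀ i ∈ s, i ≠ n → i < n := fun i hi hne => by
      have := mem_range.1 (hs hi); omega
    by_cases hn : n ∈ s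
    · obtain ⟨m, hm, hbit⟩ := mem_subsK n k (s.erase n)
        (fun i hi => mem_range.2 (hs' i (mem_of_mem_erase hi) (ne_of_mem_erase hi)))
        (by rw [card_erase_of_mem hn, hk]; rfl)
      refine ⟨m ||| 1 <<< n, List.mem_append_right _ (List.mem_map.2 ⟨m, hm, rfl⟩), fun i => ?_⟩
      rw [Nat.testBit_or, Bool.or_eq_true, hbit, Nat.one_shiftLeft, Nat.testBit_two_pow, decide_eq_true_eq,
        mem_erase]
      by_cases hi : n = i
      · subst hi; simp [hn]
      · simp [hi, Ne.symm hi]
    · obtain ⟨m, hm, hbit⟩ := mem_subsK n (k + 1) s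
        (fun i hi => mem_range.2 (hs' i hi fun e => hn (e ▸ hi))) hk
      exact ⟨m, List.mem_append_left _ hm, hbit⟩

theorem toSet_injOn {m m' : ℕ} (h : m < 2 ^ 21) (h' : m' < 2 ^ 21) (e : toSet m = toSet m') : m = m' := by
  refine Nat.eq_of_testBit_eq fun j => ?_
  by_cases hj : j < 21
  · have := congrArg (fun s => decide ((⟨j, hj⟩ : Fin 21) ∈ s)) e
    simpa using this
  · rw [Nat.testBit_lt_two_pow (h.trans_le (Nat.pow_le_pow_right (by norm_num) (by omega))),
      Nat.testBit_lt_two_pow (h'.trans_le (Nat.pow_le_pow_right (by norm_num) (by omega)))]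

/-- The number of points of a mask. -/
def cnt (m : ℕ) : ℕ := ((List.range 21).filter fun i => m.testBit i).length

theorem card_toSet (m : ℕ) : (toSet m).card = cnt m := by
  rw [cnt, ← List.toFinset_card_of_nodup (List.nodup_range.filter _)]
  refine Finset.card_bij (fun i _ => i.1) (fun i hi => ?_) (fun a _ b _ => Fin.ext) fun j hj => ?_
  · simp only [List.mem_toFinset, List.mem_filter, List.mem_range]; exact ⟨i.2, mem_toSet.1 hi⟩
  · simp only [List.mem_toFinset, List.mem_filter, List.mem_range] at hj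
    exact ⟨⟨j, hj.1⟩, mem_toSet.2 hj.2, rfl⟩

theorem toSet_inter (a b : ℕ) : toSet a ∩ toSet b = toSet (a &&& b) := by
  ext i; simp

/-- At most two bits. -/
def small3 (x : ℕ) : Bool := (x &&& (x - 1)) &&& ((x &&& (x - 1)) - 1) == 0

/-- No three points on a line. -/
def arcOK (m : ℕ) : Bool := stdLines.all fun l => small3 (l &&& m)

/-- The submasks on given positions. -/
def below : List ℕ → List ℕ
  | [] => [0]
  | f :: fs => below fs ++ (below fs).map fun x => x ||| 1 <<< f

theorem below_mem : ∀ (L : List ℕ) (m : ℕ), (∀ j, m.testBit j = true → j ∈ L) → m ∈ below L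
  | [], m, h => List.mem_singleton.2 (Nat.eq_of_testBit_eq fun j => by
      rw [Nat.zero_testBit]
      by_contra hc
      exact List.not_mem_nil (h j (by simpa using hc)))
  | f :: fs, m, h => by
    rw [below, List.mem_append, List.mem_map]
    by_cases hf : m.testBit f = true
    · refine Or.inr ⟨m ^^^ 2 ^ f, below_mem fs _ fun j hj => ?_, Nat.eq_of_testBit_eq fun j => ?_⟩
      · rw [Nat.testBit_xor, Nat.testBit_two_pow] at hj
        by_cases e : f = j
        · subst e; simp [hf] at hj
        · simp [e] at hj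
          exact (List.mem_cons.1 (h j hj)).resolve_left (Ne.symm e)
      · rw [Nat.testBit_or, Nat.one_shiftLeft, Nat.testBit_xor, Nat.testBit_two_pow]
        by_cases e : f = j
        · subst e; simp [hf]
        · simp [e]
    · refine Or.inl (below_mem fs m fun j hj => (List.mem_cons.1 (h j hj)).resolve_left ?_)
      rintro rfl
      exact hf hj

theorem small3_check : stdLines.all (fun l => decide (l < 2 ^ 21) &&
    (below ((List.range 21).filter fun i => l.testBit i)).all fun x => small3 x == decide (cnt x ≤ 2)) = true := by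
  decide +kernel

theorem small3_eq {l : ℕ} (hl : l ∈ stdLines) (m : ℕ) : small3 (l &&& m) = decide (cnt (l &&& m) ≤ 2) := by
  have h := List.all_eq_true.1 small3_check l hl
  simp only [Bool.and_eq_true, decide_eq_true_eq, List.all_eq_true, beq_iff_eq] at h
  refine h.2 _ (below_mem _ _ fun j hj => ?_)
  rw [Nat.testBit_and, Bool.and_eq_true] at hj
  rw [List.mem_filter, List.mem_range]
  refine ⟨?_, hj.1⟩
  by_contra hc
  rw [Nat.testBit_lt_two_pow (h.1.trans_le (Nat.pow_le_pow_right (by norm_num) (by omega)))] at hj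
  exact absurd hj.1 (by simp)

theorem arcOK_iff (m : ℕ) : arcOK m = true ↔ ∀ l ∈ stdSets, (l ∩ toSet m).card ≤ 2 := by
  simp only [arcOK, List.all_eq_true]
  constructor
  · rintro h l ⟨a, ha, rfl⟩
    have := h a ha
    rw [small3_eq ha, decide_eq_true_eq, ← card_toSet, ← toSet_inter] at this
    exact this
  · intro h a ha
    rw [small3_eq ha, decide_eq_true_eq, ← card_toSet, ← toSet_inter]
    exact h _ ⟨a, ha, rfl⟩

theorem subsK_count : ∀ n k, n ≤ 21 → ∀ m ∈ subsK n k, (toSet m).card = k
  | 0, 0, _, m, h => by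
    rw [List.mem_singleton.1 h, card_eq_zero]; ext i; simp
  | 0, k + 1, _, m, h => by simp [subsK] at h
  | n + 1, 0, _, m, h => by
    rw [List.mem_singleton.1 h, card_eq_zero]; ext i; simp
  | n + 1, k + 1, hn, m, h => by
    simp only [subsK, List.mem_append, List.mem_map] at h
    rcases h with h | ⟨x, hx, rfl⟩
    · exact subsK_count n (k + 1) (by omega) m h
    · have e : toSet (x ||| 1 <<< n) = insert (⟨n, by omega⟩ : Fin 21) (toSet x) := by
        ext i
        rw [mem_insert, mem_toSet, mem_toSet, Nat.testBit_or, Nat.one_shiftLeft, Nat.testBit_two_pow,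
          Bool.or_eq_true, decide_eq_true_eq, Fin.ext_iff]
        exact ⟨fun h => h.elim Or.inr fun h => Or.inl h.symm, fun h => h.elim (fun h => Or.inr h.symm) Or.inl⟩
      rw [e, card_insert_of_notMem, subsK_count n k (by omega) x hx]
      rw [mem_toSet, Nat.testBit_lt_two_pow (subsK_lt n k x hx)]
      simp

/-- The arcs among the first `n` points, built up point by point. -/
def arcsR : ℕ → ℕ → List ℕ
  | 0, 0 => [0]
  | 0, _ + 1 => []
  | _ + 1, 0 => [0]
  | n + 1, k + 1 => arcsR n (k + 1) ++ ((arcsR n k).map fun x => x ||| 1 <<< n).filter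
      fun y => (stdLines.filter fun l => l.testBit n).all fun l => small3 (l &&& y)

theorem arcOK_zero : arcOK 0 = true := by decide

theorem small3_mono {l x y : ℕ} (hl : l ∈ stdLines) (hxy : toSet x ⊆ toSet y)
    (h : small3 (l &&& y) = true) : small3 (l &&& x) = true := by
  rw [small3_eq hl, decide_eq_true_eq, ← card_toSet, ← toSet_inter] at h ⊢
  exact le_trans (card_le_card (inter_subset_inter subset_rfl hxy)) h

theorem arcsR_eq : ∀ n k, arcsR n k = (subsK n k).filter arcOK
  | 0, 0 => by simp [arcsR, subsK, arcOK_zero]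
  | 0, k + 1 => by simp [arcsR, subsK]
  | n + 1, 0 => by simp [arcsR, subsK, arcOK_zero]
  | n + 1, k + 1 => by
    have hf : (((subsK n k).filter arcOK).map fun x => x ||| 1 <<< n).filter
        (fun y => (stdLines.filter fun l => l.testBit n).all fun l => small3 (l &&& y)) =
        ((subsK n k).map fun x => x ||| 1 <<< n).filter arcOK := by
      rw [List.filter_map, List.filter_map, List.filter_filter]
      refine congrArg _ (List.filter_congr fun x _ => ?_)
      rw [Bool.eq_iff_iff]
      simp only [Function.comp_apply, Bool.and_eq_true, arcOK, List.all_eq_true, List.mem_filter]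
      constructor
      · rintro ⟨h1, h2⟩ l hl
        by_cases hb : l.testBit n = true
        · exact h1 l ⟨hl, hb⟩
        · have : l &&& (x ||| 1 <<< n) = l &&& x := Nat.eq_of_testBit_eq fun j => by
            rw [Nat.testBit_and, Nat.testBit_and, Nat.testBit_or, Nat.one_shiftLeft, Nat.testBit_two_pow]
            by_cases hj : n = j
            · subst hj; simp [hb]
            · simp [hj]
          rw [this]; exact h2 l hl
      · intro h
        exact ⟨fun l hl => h l hl.1, fun l hl => small3_mono hl (fun i hi => by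
          rw [mem_toSet] at hi ⊢; simp [hi]) (h l hl)⟩
    rw [arcsR, subsK, List.filter_append, arcsR_eq n (k + 1), arcsR_eq n k, hf]

/-- The list of arcs of a given size. -/
def arcs (k : ℕ) : List ℕ := (subsK 21 k).filter arcOK

theorem arc_extension :
    (arcsR 21 4).length = 2520 ∧
    (arcsR 21 4).all (fun m => (hypList.filter fun h => h &&& m == m).length == 1) = true := by
  decide +kernel

theorem arcs6_check : (arcsR 21 6).length = 168 ∧ (arcsR 21 6).all (fun m => hypList.contains m) = true ∧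
    hypList.all (fun m => (arcsR 21 6).contains m) = true := by decide +kernel

theorem arcs4_count : (arcs 4).length = 2520 := by rw [arcs, ← arcsR_eq]; exact arc_extension.1

theorem arcs6_count : (arcs 6).length = 168 := by rw [arcs, ← arcsR_eq]; exact arcs6_check.1

theorem moves_ok : ((List.range 168).all fun i =>
    collOK (hypMove.getD i 0) && imgM (hypMove.getD i 0) (hypList.getD 0 0) == hypList.getD i 0) = true ∧
    hypList.length = 168 := by decide +kernel

theorem swaps_ok : ((List.range 5).all fun k => collOK (hypSwap.getD k 0) && (List.range 6).all fun n =>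
    at5 (hypSwap.getD k 0) (hypPts.getD n 0) ==
      hypPts.getD (if n = k then k + 1 else if n = k + 1 then k else n) 0) = true ∧
    hypPts.length = 6 ∧ hypPts.all (fun p => (hypList.getD 0 0).testBit p && decide (p < 21)) = true ∧
    hypPts.Nodup ∧ cnt (hypList.getD 0 0) = 6 := by decide +kernel

theorem secant_check : (List.range 21).all (fun x => (hypList.getD 0 0).testBit x ||
    stdLines.any fun a => stdLines.any fun b => a &&& b == 1 <<< x &&
      cnt (a &&& hypList.getD 0 0) == 2 && cnt (b &&& hypList.getD 0 0) == 2) = true ∧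
    stdLines.all (fun a => stdLines.all fun b => a == b || decide (cnt (a &&& b) ≤ 1)) = true ∧
    stdLines.all (fun a => decide (a < 2 ^ 21)) = true ∧ stdLines.Nodup := by decide +kernel

variable {α : Type*} [Fintype α] [DecidableEq α] {L : Set (Finset α)}

theorem arc_transport {e : Fin 21 ≃ α} (he : ∀ s : Finset (Fin 21), s.image e ∈ L ↔ s ∈ stdSets) (m : ℕ) :
    (∀ l ∈ L, (l ∩ (toSet m).image e).card ≤ 2) ↔ arcOK m = true := by
  rw [arcOK_iff]
  have key : ∀ s : Finset (Fin 21), (s.image e ∩ (toSet m).image e).card = (s ∩ toSet m).card := fun s => by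
    rw [← image_inter _ _ e.injective, card_image_of_injective _ e.injective]
  refine ⟨fun h s hs => key s ▸ h _ ((he s).2 hs), fun h l hl => ?_⟩
  have el : l = (l.image e.symm).image e := by simp [image_image]
  rw [el] at hl ⊢
  rw [key]
  exact h _ ((he _).1 hl)

theorem exists_mask (e : Fin 21 ≃ α) {S : Finset α} {k : ℕ} (hS : S.card = k) :
    ∃ m ∈ subsK 21 k, S = (toSet m).image e := by
  obtain ⟨m, hm, hbit⟩ := mem_subsK 21 k ((S.image e.symm).image Fin.val)
    (fun i hi => by obtain ⟨j, -, rfl⟩ := mem_image.1 hi; exact mem_range.2 j.2)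
    (by rw [card_image_of_injective _ Fin.val_injective, card_image_of_injective _ e.symm.injective, hS])
  refine ⟨m, hm, ?_⟩
  have : toSet m = S.image e.symm := by
    ext i
    rw [mem_toSet, hbit, mem_image]
    exact ⟨fun ⟨a, ha, h⟩ => Fin.ext h ▸ ha, fun h => ⟨i, h, rfl⟩⟩
  rw [this]; simp [image_image]

theorem subsK_card {k m : ℕ} (_hk : k = 4 ∨ k = 6) (hm : m ∈ arcs k) : (toSet m).card = k :=
  subsK_count 21 k le_rfl m (List.mem_filter.1 hm).1

theorem arcs_ncard {e : Fin 21 ≃ α} (he : ∀ s : Finset (Fin 21), s.image e ∈ L ↔ s ∈ stdSets) {k : ℕ}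
    (hk : k = 4 ∨ k = 6) :
    {S : Finset α | S.card = k ∧ ∀ l ∈ L, (l ∩ S).card ≤ 2}.ncard = (arcs k).length := by
  have hset : {S : Finset α | S.card = k ∧ ∀ l ∈ L, (l ∩ S).card ≤ 2} =
      ((arcs k).toFinset.image fun m => (toSet m).image e : Finset (Finset α)) := by
    ext S
    simp only [Set.mem_ofPred_eq, coe_image, Set.mem_image, mem_coe, List.mem_toFinset, arcs, List.mem_filter]
    constructor
    · rintro ⟨hS, harc⟩
      obtain ⟨m, hm, rfl⟩ := exists_mask e hS
      exact ⟨m, ⟨hm, (arc_transport he m).1 harc⟩, rfl⟩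
    · rintro ⟨m, ⟨hm, ha⟩, rfl⟩
      exact ⟨by rw [card_image_of_injective _ e.injective, subsK_card hk (List.mem_filter.2 ⟨hm, ha⟩)],
        (arc_transport he m).2 ha⟩
  rw [hset, Set.ncard_coe_finset, card_image_of_injOn, List.toFinset_card_of_nodup (l := arcs k) ((subsK_nodup 21 k).filter _)]
  intro m hm m' hm' h
  simp only [mem_coe, List.mem_toFinset, arcs, List.mem_filter] at hm hm'
  exact toSet_injOn (subsK_lt 21 k m hm.1) (subsK_lt 21 k m' hm'.1)
    (image_injective e.injective h)

theorem hyp_mem {m : ℕ} : m ∈ hypList ↔ m ∈ arcs 6 := by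
  rw [arcs, ← arcsR_eq]
  obtain ⟨-, h1, h2⟩ := arcs6_check
  simp only [List.all_eq_true, List.contains_eq_mem, decide_eq_true_eq] at h1 h2
  exact ⟨h2 m, h1 m⟩

theorem existsUnique_hyperoval {e : Fin 21 ≃ α} (he : ∀ s : Finset (Fin 21), s.image e ∈ L ↔ s ∈ stdSets)
    {S : Finset α} (hS : S.card = 4) (harc : ∀ l ∈ L, (l ∩ S).card ≤ 2) :
    ∃! H : Finset α, (H.card = 6 ∧ ∀ l ∈ L, (l ∩ H).card ≤ 2) ∧ S ⊆ H := by
  obtain ⟨m, hm, rfl⟩ := exists_mask e hS
  have h := List.all_eq_true.1 arc_extension.2 m (by rw [arcsR_eq]; exact List.mem_filter.2 ⟨hm, (arc_transport he m).1 harc⟩)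
  rw [beq_iff_eq, List.length_eq_one_iff] at h
  obtain ⟨u, hu⟩ := h
  have hmem : ∀ x, x ∈ hypList ∧ x &&& m = m ↔ x = u := fun x => by
    have := (List.mem_filter : x ∈ hypList.filter (fun h => h &&& m == m) ↔ _)
    rw [hu, List.mem_singleton, beq_iff_eq] at this
    exact this.symm
  have hsub : ∀ x, x &&& m = m → toSet m ⊆ toSet x := fun x hx i hi => by
    rw [mem_toSet] at hi ⊢
    rw [← hx, Nat.testBit_and, Bool.and_eq_true] at hi
    exact hi.1
  obtain ⟨hu1, hu2⟩ := (hmem u).2 rfl
  have hua := hyp_mem.1 hu1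
  refine ⟨(toSet u).image e, ⟨⟨by rw [card_image_of_injective _ e.injective, subsK_card (Or.inr rfl) hua],
    (arc_transport he u).2 (List.mem_filter.1 hua).2⟩, image_subset_image (hsub u hu2)⟩, ?_⟩
  rintro H ⟨⟨hH, hHarc⟩, hSH⟩
  obtain ⟨x, hx, rfl⟩ := exists_mask e hH
  rw [image_subset_image_iff e.injective] at hSH
  have hxm : x &&& m = m := Nat.eq_of_testBit_eq fun j => by
    rw [Nat.testBit_and]
    by_cases hj : m.testBit j = true
    · have hj21 : j < 21 := by
        by_contra hc
        rw [Nat.testBit_lt_two_pow ((subsK_lt 21 4 m hm).trans_le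
          (Nat.pow_le_pow_right (by norm_num) (by omega)))] at hj
        cases hj
      have := hSH (mem_toSet.2 (show m.testBit (⟨j, hj21⟩ : Fin 21).1 = true from hj))
      rw [hj, mem_toSet.1 this]; rfl
    · rw [Bool.eq_false_iff.2 hj, Bool.and_false]
  rw [(hmem x).1 ⟨hyp_mem.2 (List.mem_filter.2 ⟨hx, (arc_transport he x).1 hHarc⟩), hxm⟩]

theorem coll_image {t : ℕ} (hp : permOK t = true) (ht : collOK t = true) (s : Finset (Fin 21)) :
    s.image (perm t hp) ∈ stdSets ↔ s ∈ stdSets := by
  simp only [collOK, Bool.and_eq_true, List.all_eq_true, List.contains_eq_mem, decide_eq_true_eq] at ht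
  have hmaps : ∀ a ∈ stdSets, a.image (perm t hp) ∈ stdSets := by
    rintro a ⟨m, hm, rfl⟩
    exact ⟨imgM t m, ht.2 m hm, (toSet_img t hp m).symm⟩
  have hfin : stdSets.Finite := Set.toFinite _
  have himg : (fun a : Finset (Fin 21) => a.image (perm t hp)) '' stdSets = stdSets :=
    Set.eq_of_subset_of_ncard_le (fun x ⟨a, ha, e⟩ => e ▸ hmaps a ha)
      (by rw [Set.ncard_image_of_injective _ (image_injective (perm t hp).injective)]) hfin
  refine ⟨fun h => ?_, hmaps s⟩
  rw [← himg] at h
  obtain ⟨a, ha, e⟩ := h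
  rwa [← image_injective (perm t hp).injective e]

/-- The first hyperoval. -/
def H0 : Finset (Fin 21) := toSet (hypList.getD 0 0)

theorem exists_std_at (hL : IsSteinerSystem 2 5 L) (hα : Fintype.card α = 21) {H : Finset α}
    (hH : H.card = 6) (harc : ∀ l ∈ L, (l ∩ H).card ≤ 2) :
    ∃ e : Fin 21 ≃ α, (∀ s : Finset (Fin 21), s.image e ∈ L ↔ s ∈ stdSets) ∧ H0.image e = H := by
  obtain ⟨e, he⟩ := exists_std hL hα
  obtain ⟨m, hm, rfl⟩ := exists_mask e hH
  obtain ⟨i, hi, rfl⟩ := List.getElem_of_mem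
    (hyp_mem.2 (List.mem_filter.2 ⟨hm, (arc_transport he m).1 harc⟩))
  obtain ⟨h, hlen⟩ := moves_ok
  simp only [List.all_eq_true, List.mem_range, Bool.and_eq_true, beq_iff_eq] at h
  obtain ⟨hc, himg⟩ := h i (hlen ▸ hi)
  have hp : permOK (hypMove.getD i 0) = true := by
    simp only [collOK, Bool.and_eq_true] at hc; exact hc.1
  refine ⟨(perm _ hp).trans e, fun s => ?_, ?_⟩
  · rw [← coll_image hp hc s, ← he]; simp [image_image]
  · rw [← List.getD_eq_getElem hypList 0 hi, ← himg, ← toSet_img _ hp, image_image]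
    rfl

/-- Collineations of the standard plane. -/
def stdAut : Subgroup (Equiv.Perm (Fin 21)) where
  carrier := {g | ∀ s, s.image g ∈ stdSets ↔ s ∈ stdSets}
  one_mem' := fun s => by simp
  mul_mem' := fun {a b} ha hb s => by
    rw [← hb s, ← ha (s.image b), image_image]; rfl
  inv_mem' := fun {a} ha s => by
    rw [← ha (s.image ⇑a⁻¹), image_image]; simp

theorem fix_hyperoval {g : Equiv.Perm (Fin 21)} (hg : g ∈ stdAut) (hfix : ∀ p ∈ H0, g p = p) : g = 1 := by
  obtain ⟨hsec, hpair, hlt, -⟩ := secant_check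
  simp only [List.all_eq_true, List.mem_range, Bool.or_eq_true, List.any_eq_true, Bool.and_eq_true, beq_iff_eq,
    decide_eq_true_eq] at hsec hpair hlt
  refine Equiv.ext fun x => ?_
  rcases hsec x.1 x.2 with hx | ⟨a, ha, b, hb, ⟨hab, ha2⟩, hb2⟩
  · exact hfix x (mem_toSet.2 hx)
  have line_fixed : ∀ a ∈ stdLines, cnt (a &&& hypList.getD 0 0) = 2 → (toSet a).image g = toSet a := by
    intro a ha h2
    obtain ⟨c, hc, e⟩ := (hg (toSet a)).2 ⟨a, ha, rfl⟩
    have hsub : toSet a ∩ H0 ⊆ toSet c := fun p hp => by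
      rw [mem_inter] at hp
      rw [e, mem_image]
      exact ⟨p, hp.1, hfix p hp.2⟩
    have h2' : 2 ≤ (toSet a ∩ toSet c).card := by
      rw [← h2, ← card_toSet, ← toSet_inter]
      exact card_le_card (subset_inter inter_subset_left hsub)
    rw [toSet_inter, card_toSet] at h2'
    rcases hpair a ha c hc with e' | e'
    · rw [← e, e']
    · omega
  have hxa : x ∈ toSet a ∩ toSet b := by rw [toSet_inter, hab, mem_toSet, Nat.one_shiftLeft]; simp
  rw [mem_inter] at hxa
  have hga : g x ∈ toSet a ∩ toSet b :=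
    mem_inter.2 ⟨line_fixed a ha ha2 ▸ mem_image_of_mem g hxa.1, line_fixed b hb hb2 ▸ mem_image_of_mem g hxa.2⟩
  rw [toSet_inter, hab, mem_toSet, Nat.one_shiftLeft, Nat.testBit_two_pow, decide_eq_true_eq] at hga
  exact (Fin.ext hga).symm

theorem extend_perm (σ : Equiv.Perm H0) : ∃ g ∈ stdAut, ∀ p : H0, g p = σ p := by
  obtain ⟨hsw, hlen, hmem, hnd, hcard⟩ := swaps_ok
  simp only [List.all_eq_true, List.mem_range, Bool.and_eq_true, beq_iff_eq, decide_eq_true_eq] at hsw hmem
  have hget : ∀ i : Fin 6, hypPts.getD i.1 0 ∈ hypPts := fun i => by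
    rw [List.getD_eq_getElem _ _ (hlen.symm ▸ i.2)]; exact List.getElem_mem _
  let f : Fin 6 → H0 := fun i => ⟨⟨hypPts.getD i.1 0, (hmem _ (hget i)).2⟩, mem_toSet.2 (hmem _ (hget i)).1⟩
  have hinj : Function.Injective f := fun i j e => by
    have := congrArg (fun p : H0 => p.1.1) e
    simp only [f] at this
    rw [List.getD_eq_getElem _ _ (hlen.symm ▸ i.2), List.getD_eq_getElem _ _ (hlen.symm ▸ j.2)] at this
    exact Fin.ext (hnd.getElem_inj_iff.1 this)
  let E : Fin 6 ≃ H0 := Equiv.ofBijective f ((Fintype.bijective_iff_injective_and_card f).2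
    ⟨hinj, by rw [Fintype.card_fin, Fintype.card_coe]; exact ((card_toSet _).trans hcard).symm⟩)
  let X : Submonoid (Equiv.Perm (Fin 6)) :=
    { carrier := {τ | ∃ g ∈ stdAut, ∀ i, g (E i).1 = (E (τ i)).1}
      one_mem' := ⟨1, one_mem _, fun _ => rfl⟩
      mul_mem' := fun {a b} ha hb => by
        obtain ⟨g, hg, hga⟩ := ha
        obtain ⟨k, hk, hkb⟩ := hb
        exact ⟨g * k, mul_mem hg hk, fun i => by
          rw [Equiv.Perm.mul_apply, hkb, hga, Equiv.Perm.mul_apply]⟩ }
  have hX : X = ⊤ := by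
    rw [eq_top_iff, ← Equiv.Perm.mclosure_swap_castSucc_succ 5, Submonoid.closure_le]
    rintro _ ⟨k, rfl⟩
    obtain ⟨hc, himg⟩ := hsw k.1 k.2
    have hp : permOK (hypSwap.getD k.1 0) = true := by
      simp only [collOK, Bool.and_eq_true] at hc; exact hc.1
    refine ⟨perm _ hp, fun s => coll_image hp hc s, fun i => Fin.ext ?_⟩
    rw [perm_val]
    show at5 (hypSwap.getD k.1 0) (hypPts.getD i.1 0) = hypPts.getD ((Equiv.swap k.castSucc k.succ) i).1 0
    rw [himg i.1 i.2]
    congr 1
    rw [Equiv.swap_apply_def]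
    split_ifs <;> simp_all [Fin.ext_iff]
  obtain ⟨g, hg, hgi⟩ := (hX.symm ▸ Submonoid.mem_top ((E.trans σ).trans E.symm) : _ ∈ X)
  refine ⟨g, hg, fun p => ?_⟩
  have := hgi (E.symm p)
  simpa using this

end Cfsg.Agent.PlaneFour.Hyperovals
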