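import Cfsg.Agent.Lib.PlaneFour.Model
import Cfsg.Agent.Lib.Golay.Steiner

/-!
Every Steiner system S(2, 5, 21) is the standard plane of order four.
-/

set_option autoImplicit false
set_option maxRecDepth 10000

namespace Cfsg.Agent.PlaneFour.Coord

open Cfsg Cfsg.Agent.Golay.Steiner Cfsg.Agent.PlaneFour.Data Cfsg.Agent.PlaneFour.Model Finset

/-- Intersection numbers of the plane. -/
def n2521 : ℕ → ℕ
  | 1 => 4 | 5 => 1 | _ => 0

theorem interNums_2521 : InterNums 2 5 21 n2521 := by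
  intro j hj; interval_cases j <;> decide +kernel

variable {α : Type*} [Fintype α] [DecidableEq α] {L : Set (Finset α)}

theorem meet (hL : IsSteinerSystem 2 5 L) (hα : Fintype.card α = 21) {b c : Finset α} (hb : b ∈ L)
    (hc : c ∈ L) (h : b ≠ c) : ∃! p, p ∈ b ∧ p ∈ c := by
  have h1 := inter_card_lt hL hb hc h
  have h2 := inter_num_ne_zero hL (by norm_num : 2 ≤ 5) hα interNums_2521 hb hc
  have h3 : (b ∩ c).card = 1 := by
    rcases Nat.eq_zero_or_pos (b ∩ c).card with e | e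
    · rw [e] at h2; exact absurd rfl h2
    · omega
  obtain ⟨p, hp⟩ := card_eq_one.1 h3
  exact ⟨p, mem_inter.1 (hp ▸ mem_singleton_self p), fun q hq => mem_singleton.1 (hp ▸ mem_inter.2 hq)⟩

theorem meet_eq (hL : IsSteinerSystem 2 5 L) (hα : Fintype.card α = 21) {b c : Finset α} (hb : b ∈ L)
    (hc : c ∈ L) (h : b ≠ c) {p q : α} (hp : p ∈ b) (hp' : p ∈ c) (hq : q ∈ b) (hq' : q ∈ c) : p = q :=
  (meet hL hα hb hc h).unique ⟨hp, hp'⟩ ⟨hq, hq'⟩

theorem join_exists (hL : IsSteinerSystem 2 5 L) (p q : α) (h : p ≠ q) : ∃ b ∈ L, p ∈ b ∧ q ∈ b := by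
  obtain ⟨b, hb, hs⟩ := exists_block hL (s := {p, q}) (card_pair h)
  exact ⟨b, hb, hs (by simp), hs (by simp)⟩

theorem join_eq (hL : IsSteinerSystem 2 5 L) {b c : Finset α} (hb : b ∈ L) (hc : c ∈ L) {p q : α}
    (h : p ≠ q) (hp : p ∈ b) (hq : q ∈ b) (hp' : p ∈ c) (hq' : q ∈ c) : b = c :=
  eq_of_subset hL (s := {p, q}) (by rw [card_pair h]) hb hc (by simp [insert_subset_iff, hp, hq])
    (by simp [insert_subset_iff, hp', hq'])

/-- Enumeration of four points starting with a given one. -/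
theorem exists_enum {s : Finset α} (hs : s.card = 4) {O : α} (hO : O ∈ s) :
    ∃ a : Fin 4 → α, Function.Injective a ∧ a 0 = O ∧ ∀ x, x ∈ s ↔ ∃ j, a j = x := by
  obtain ⟨x, y, z, hxy, hxz, hyz, e⟩ := card_eq_three.1 (show (s.erase O).card = 3 by
    rw [card_erase_of_mem hO, hs])
  have hs' : s = {O, x, y, z} := by rw [← insert_erase hO, e]
  have hne : ∀ w ∈ ({x, y, z} : Finset α), O ≠ w := fun w hw h => by
    rw [← e] at hw; exact (mem_erase.1 hw).1 h.symm
  have hx := hne x (by simp)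
  have hy := hne y (by simp)
  have hz := hne z (by simp)
  refine ⟨![O, x, y, z], ?_, rfl, fun w => ?_⟩
  · intro i j
    fin_cases i <;> fin_cases j <;>
      simp [hx, hy, hz, hxy, hxz, hyz, hx.symm, hy.symm, hz.symm, hxy.symm, hxz.symm, hyz.symm]
  · rw [hs', Fin.exists_fin_succ, Fin.exists_fin_succ, Fin.exists_fin_succ, Fin.exists_fin_one]
    simp [eq_comm]

/-- Coordinates with respect to two lines. -/
structure Coords (L : Set (Finset α)) where
  P : Fin 5 → α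
  a : Fin 4 → α
  b : Fin 4 → α
  l : Finset α
  A : Finset α
  B : Finset α
  hl : l ∈ L
  hA : A ∈ L
  hB : B ∈ L
  Pinj : Function.Injective P
  ainj : Function.Injective a
  binj : Function.Injective b
  memL : ∀ x, x ∈ l ↔ ∃ k, P k = x
  memA : ∀ x, x ∈ A ↔ x = P 0 ∨ ∃ j, a j = x
  memB : ∀ x, x ∈ B ↔ x = P 1 ∨ ∃ j, b j = x
  aOut : ∀ j, a j ∉ l
  bOut : ∀ j, b j ∉ l
  zero : a 0 = b 0
  dir : ∀ j : Fin 3, ∃ c ∈ L, P ⟨j.1 + 2, by omega⟩ ∈ c ∧ b 1 ∈ c ∧ a ⟨j.1 + 1, by omega⟩ ∈ c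

theorem exists_coords (hL : IsSteinerSystem 2 5 L) (hα : Fintype.card α = 21) : Nonempty (Coords L) := by
  classical
  obtain ⟨s, -, hs⟩ := exists_subset_card_eq (s := (univ : Finset α)) (n := 2) (by rw [card_univ, hα]; norm_num)
  obtain ⟨l, hl, -⟩ := exists_block hL hs
  have hl5 := hL.1 l hl
  obtain ⟨O, hO⟩ : ∃ O, O ∉ l := by
    by_contra h
    push Not at h
    have : l = univ := eq_univ_of_forall h
    rw [this, card_univ, hα] at hl5
    omega
  obtain ⟨p, hp⟩ := card_pos.1 (show 0 < l.card by omega)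
  obtain ⟨q, hq⟩ := card_pos.1 (show 0 < (l.erase p).card by rw [card_erase_of_mem hp]; omega)
  obtain ⟨hqp, hql⟩ := mem_erase.1 hq
  obtain ⟨A, hA, hpA, hOA⟩ := join_exists hL p O (fun e => hO (e ▸ hp))
  obtain ⟨B, hB, hqB, hOB⟩ := join_exists hL q O (fun e => hO (e ▸ hql))
  have hAl : A ≠ l := fun e => hO (e ▸ hOA)
  have hBl : B ≠ l := fun e => hO (e ▸ hOB)
  obtain ⟨a, ainj, a0, ha⟩ := exists_enum (s := A.erase p) (by rw [card_erase_of_mem hpA, hL.1 A hA])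
    (mem_erase.2 ⟨by intro e; exact hO (e ▸ hp), hOA⟩)
  obtain ⟨b, binj, b0, hb⟩ := exists_enum (s := B.erase q) (by rw [card_erase_of_mem hqB, hL.1 B hB])
    (mem_erase.2 ⟨by intro e; exact hO (e ▸ hql), hOB⟩)
  have haA : ∀ j, a j ∈ A ∧ a j ≠ p := fun j =>
    ⟨(mem_erase.1 ((ha _).2 ⟨j, rfl⟩)).2, (mem_erase.1 ((ha _).2 ⟨j, rfl⟩)).1⟩
  have hbB : ∀ j, b j ∈ B ∧ b j ≠ q := fun j =>
    ⟨(mem_erase.1 ((hb _).2 ⟨j, rfl⟩)).2, (mem_erase.1 ((hb _).2 ⟨j, rfl⟩)).1⟩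
  have aOut : ∀ j, a j ∉ l := fun j h => (haA j).2 (meet_eq hL hα hA hl hAl (haA j).1 h hpA hp)
  have bOut : ∀ j, b j ∉ l := fun j h => (hbB j).2 (meet_eq hL hα hB hl hBl (hbB j).1 h hqB hql)
  have hAB : A ≠ B := fun e => hqp (meet_eq hL hα hA hl hAl (e ▸ hqB) hql hpA hp)
  have b1A : b 1 ∉ A := fun h => by
    have := meet_eq hL hα hA hB hAB h (hbB 1).1 hOA hOB
    rw [← b0] at this
    exact absurd (binj this) (by decide)
  have key : ∀ j : Fin 3, ∃ r c, c ∈ L ∧ r ∈ l ∧ r ∈ c ∧ b 1 ∈ c ∧ a ⟨j.1 + 1, by omega⟩ ∈ c ∧ r ≠ p ∧ r ≠ q := by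
    intro j
    obtain ⟨c, hc, hbc, hac⟩ := join_exists hL (b 1) (a ⟨j.1 + 1, by omega⟩) (fun e => b1A (e ▸ (haA _).1))
    obtain ⟨r, ⟨hrl, hrc⟩, -⟩ := meet hL hα hl hc (fun e => bOut 1 (e ▸ hbc))
    refine ⟨r, c, hc, hrl, hrc, hbc, hac, fun e => ?_, fun e => ?_⟩
    · subst e
      exact b1A (join_eq hL hc hA (fun e => aOut _ (e ▸ hp)) hrc hac hpA (haA _).1 ▸ hbc)
    · subst e
      have hcB := join_eq hL hc hB (by intro e; exact bOut 1 (e ▸ hql)) hrc hbc hqB (hbB 1).1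
      have := meet_eq hL hα hA hB hAB (haA ⟨j.1 + 1, by omega⟩).1 (hcB ▸ hac) hOA hOB
      rw [← a0] at this
      exact absurd (congrArg Fin.val (ainj this)) (by simp)
  choose r c hc hrl hrc hbc hac hrp hrq using key
  have rinj : Function.Injective r := by
    intro i j e
    have h1 := join_eq hL (hc i) (hc j) (by intro h; exact bOut 1 (h ▸ hrl i)) (hrc i) (hbc i) (e ▸ hrc j) (hbc j)
    have h2 := meet_eq hL hα (hc j) hA (fun h => b1A (h ▸ hbc j)) (h1 ▸ hac i) (haA _).1 (hac j) (haA _).1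
    have h3 := congrArg Fin.val (ainj h2)
    exact Fin.ext (by simpa using h3)
  have Pinj : Function.Injective ![p, q, r 0, r 1, r 2] := by
    intro i j
    have h01 : r 0 ≠ r 1 := fun e => absurd (rinj e) (by decide)
    have h02 : r 0 ≠ r 2 := fun e => absurd (rinj e) (by decide)
    have h12 : r 1 ≠ r 2 := fun e => absurd (rinj e) (by decide)
    fin_cases i <;> fin_cases j <;> simp [hqp, hqp.symm, hrp, hrq, (hrp 0).symm, (hrp 1).symm, (hrp 2).symm,
      (hrq 0).symm, (hrq 1).symm, (hrq 2).symm, h01, h02, h12, h01.symm, h02.symm, h12.symm]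
  refine ⟨⟨![p, q, r 0, r 1, r 2], a, b, l, A, B, hl, hA, hB, Pinj, ainj, binj, fun x => ?_, fun x => ?_,
    fun x => ?_, aOut, bOut, a0.trans b0.symm, fun j => ⟨c j, hc j, ?_, hbc j, hac j⟩⟩⟩
  · have hsub : univ.image ![p, q, r 0, r 1, r 2] ⊆ l := by
      intro y hy
      obtain ⟨k, -, rfl⟩ := mem_image.1 hy
      fin_cases k <;> simp [hp, hql, hrl]
    have heq := eq_of_subset_of_card_le hsub (by rw [card_image_of_injective _ Pinj, hl5]; simp)
    rw [← heq, mem_image]; simp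
  · show x ∈ A ↔ x = p ∨ ∃ j, a j = x
    rw [← ha, mem_erase]
    exact ⟨fun h => (em (x = p)).imp_right fun hne => ⟨hne, h⟩, fun h => h.elim (fun e => e ▸ hpA) And.right⟩
  · show x ∈ B ↔ x = q ∨ ∃ j, b j = x
    rw [← hb, mem_erase]
    exact ⟨fun h => (em (x = q)).imp_right fun hne => ⟨hne, h⟩, fun h => h.elim (fun e => e ▸ hqB) And.right⟩
  · fin_cases j <;> simpa using hrc _

/-- A labelling of the points by three squares. -/
theorem exists_squares (hL : IsSteinerSystem 2 5 L) (hα : Fintype.card α = 21) (C : Coords L) :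
    ∃ F : Fin 5 → Fin 4 → Fin 4 → Fin 4, (∀ i j, F 0 i j = i) ∧ (∀ i j, F 1 i j = j) ∧
      (∀ k : Fin 5, 2 ≤ k.1 → ∀ j, F k 0 j = j) ∧ (∀ k : Fin 3, (F ⟨k.1 + 2, by omega⟩ 1 0).1 = k.1 + 1) ∧
      (∀ k k' : Fin 5, k ≠ k' → ∀ i j i' j', F k i j = F k i' j' → F k' i j = F k' i' j' → i = i' ∧ j = j') ∧
      ∃ e : Fin 21 ≃ α, ∀ s, s ∈ L ↔ (∀ n, e n ∈ s ↔ n.1 < 5) ∨
        ∃ (k : Fin 5) (c : Fin 4), ∀ n, e n ∈ s ↔ n.1 = k.1 ∨ (5 ≤ n.1 ∧
          F k ⟨(n.1 - 5) / 4 % 4, Nat.mod_lt _ (by norm_num)⟩ ⟨(n.1 - 5) % 4, Nat.mod_lt _ (by norm_num)⟩ = c) := by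
  classical
  have hP : ∀ k, C.P k ∈ C.l := fun k => (C.memL _).2 ⟨k, rfl⟩
  have haA : ∀ j, C.a j ∈ C.A := fun j => (C.memA _).2 (Or.inr ⟨j, rfl⟩)
  have hbB : ∀ j, C.b j ∈ C.B := fun j => (C.memB _).2 (Or.inr ⟨j, rfl⟩)
  have hPA : C.P 0 ∈ C.A := (C.memA _).2 (Or.inl rfl)
  have hPB : C.P 1 ∈ C.B := (C.memB _).2 (Or.inl rfl)
  have hAl : C.A ≠ C.l := fun e => C.aOut 0 (e ▸ haA 0)
  have hBl : C.B ≠ C.l := fun e => C.bOut 0 (e ▸ hbB 0)
  -- the lines through the two chosen ideal points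
  have hU : ∀ i, ∃ u ∈ L, C.P 0 ∈ u ∧ C.b i ∈ u := fun i =>
    join_exists hL _ _ fun e => C.bOut i (e ▸ hP 0)
  have hV : ∀ j, ∃ v ∈ L, C.P 1 ∈ v ∧ C.a j ∈ v := fun j =>
    join_exists hL _ _ fun e => C.aOut j (e ▸ hP 1)
  choose U hUL hUP hUb using hU
  choose V hVL hVP hVa using hV
  have hUl : ∀ i, U i ≠ C.l := fun i e => C.bOut i (e ▸ hUb i)
  have hVl : ∀ j, V j ≠ C.l := fun j e => C.aOut j (e ▸ hVa j)
  have hUV : ∀ i j, U i ≠ V j := fun i j e =>
    absurd (C.Pinj (meet_eq hL hα (hUL i) C.hl (hUl i) (hUP i) (hP 0) (e ▸ hVP j) (hP 1))) (by decide)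
  have hq : ∀ i j, ∃ q, q ∈ U i ∧ q ∈ V j := fun i j => (meet hL hα (hUL i) (hVL j) (hUV i j)).exists
  choose q hqU hqV using hq
  have qOut : ∀ i j, q i j ∉ C.l := fun i j h => by
    have h1 := meet_eq hL hα (hUL i) C.hl (hUl i) (hqU i j) h (hUP i) (hP 0)
    have h2 := meet_eq hL hα (hVL j) C.hl (hVl j) (hqV i j) h (hVP j) (hP 1)
    exact absurd (C.Pinj (h1.symm.trans h2)) (by decide)
  have hPa : ∀ k : Fin 5, k ≠ 0 → C.P k ∉ C.A := fun k hk h =>
    hk (C.Pinj (meet_eq hL hα C.hA C.hl hAl h (hP k) hPA (hP 0)))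
  -- every direction
  have hdir : ∀ (k : Fin 5) (x : α), x ∉ C.l → ∃ w ∈ L, C.P k ∈ w ∧ x ∈ w := fun k x hx =>
    join_exists hL _ _ fun e => hx (e ▸ hP k)
  have hval : ∀ (k : Fin 5) (i j : Fin 4), ∃ c : Fin 4, if k = 0 then c = i else if k = 1 then c = j else
      ∃ w ∈ L, C.P k ∈ w ∧ q i j ∈ w ∧ C.a c ∈ w := by
    intro k i j
    by_cases h0 : k = 0
    · exact ⟨i, by rw [if_pos h0]⟩
    by_cases h1 : k = 1
    · exact ⟨j, by rw [if_neg h0, if_pos h1]⟩
    obtain ⟨w, hw, hPw, hqw⟩ := hdir k (q i j) (qOut i j)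
    obtain ⟨x, ⟨hxw, hxA⟩, -⟩ := meet hL hα hw C.hA (fun e => hPa k h0 (e ▸ hPw))
    rcases (C.memA x).1 hxA with e | ⟨c, e⟩
    · subst e
      have hwl : w ≠ C.l := fun e' => qOut i j (e' ▸ hqw)
      exact absurd (C.Pinj (meet_eq hL hα hw C.hl hwl hPw (hP k) hxw (hP 0))) h0
    · exact ⟨c, by rw [if_neg h0, if_neg h1]; exact ⟨w, hw, hPw, hqw, e ▸ hxw⟩⟩
  choose F hF using hval
  let base : Fin 5 → Fin 4 → α := fun k c => if k = 0 then C.b c else C.a c
  have baseOut : ∀ k c, base k c ∉ C.l := fun k c => by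
    simp only [base]; split_ifs
    · exact C.bOut c
    · exact C.aOut c
  have hW : ∀ k c, ∃ w ∈ L, C.P k ∈ w ∧ base k c ∈ w := fun k c => hdir k _ (baseOut k c)
  choose W hWL hWP hWb using hW
  have W0 : ∀ c, W 0 c = U c := fun c =>
    join_eq hL (hWL 0 c) (hUL c) (by intro e; exact C.bOut c (e ▸ hP 0)) (hWP 0 c) (by simpa [base] using hWb 0 c)
      (hUP c) (hUb c)
  have W1 : ∀ c, W 1 c = V c := fun c =>
    join_eq hL (hWL 1 c) (hVL c) (by intro e; exact C.aOut c (e ▸ hP 1)) (hWP 1 c) (by simpa [base] using hWb 1 c)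
      (hVP c) (hVa c)
  have hWinj : ∀ k c c', W k c = W k c' → c = c' := by
    intro k c c' e
    by_cases h0 : k = 0
    · subst h0
      have hne : W 0 c ≠ C.B := fun h =>
        absurd (C.Pinj (meet_eq hL hα C.hB C.hl hBl (h ▸ hWP 0 c) (hP 0) hPB (hP 1))) (by decide)
      exact C.binj (meet_eq hL hα (hWL 0 c) C.hB hne (by simpa [base] using hWb 0 c) (hbB c)
        (e ▸ by simpa [base] using hWb 0 c') (hbB c'))
    · have hne : W k c ≠ C.A := fun h => hPa k h0 (h ▸ hWP k c)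
      exact C.ainj (meet_eq hL hα (hWL k c) C.hA hne (by simpa [base, h0] using hWb k c) (haA c)
        (e ▸ by simpa [base, h0] using hWb k c') (haA c'))
  have hWq : ∀ k i j, q i j ∈ W k (F k i j) := by
    intro k i j
    have h := hF k i j
    by_cases h0 : k = 0
    · subst h0; rw [if_pos rfl] at h; rw [h, W0]; exact hqU i j
    by_cases h1 : k = 1
    · subst h1; rw [if_neg h0, if_pos rfl] at h; rw [h, W1]; exact hqV i j
    rw [if_neg h0, if_neg h1] at h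
    obtain ⟨w, hw, hPw, hqw, haw⟩ := h
    rw [join_eq hL (hWL k (F k i j)) hw (fun e => C.aOut _ (e ▸ hP k)) (hWP k _)
      (by simpa [base, h0] using hWb k (F k i j)) hPw haw]
    exact hqw
  have hWiff : ∀ k c i j, q i j ∈ W k c ↔ F k i j = c := fun k c i j =>
    ⟨fun h => hWinj k _ _ (join_eq hL (hWL k _) (hWL k c) (by intro e; exact qOut i j (e ▸ hP k)) (hWP k _)
      (hWq k i j) (hWP k c) h), fun h => h ▸ hWq k i j⟩
  have qinj : ∀ i j i' j', q i j = q i' j' → i = i' ∧ j = j' := fun i j i' j' e =>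
    ⟨by
      have := (hWiff 0 i i' j').1 (e ▸ (W0 i ▸ hqU i j))
      have h2 := hF 0 i' j'; rw [if_pos rfl] at h2; exact (h2.symm.trans this).symm,
     by
      have := (hWiff 1 j i' j').1 (e ▸ (W1 j ▸ hqV i j))
      have h2 := hF 1 i' j'; rw [if_neg (by decide), if_pos rfl] at h2; exact (h2.symm.trans this).symm⟩
  -- the labelling
  let f : Fin 21 → α := fun n => if h : n.1 < 5 then C.P ⟨n.1, h⟩ else
    q ⟨(n.1 - 5) / 4 % 4, Nat.mod_lt _ (by norm_num)⟩ ⟨(n.1 - 5) % 4, Nat.mod_lt _ (by norm_num)⟩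
  have finj : Function.Injective f := by
    intro x y e
    simp only [f] at e
    split_ifs at e with h1 h2 h2
    · have := congrArg Fin.val (C.Pinj e); exact Fin.ext (by simpa using this)
    · exact absurd (e ▸ hP _) (qOut _ _)
    · exact absurd (e ▸ hP _) (qOut _ _)
    · obtain ⟨e1, e2⟩ := qinj _ _ _ _ e
      simp only [Fin.mk.injEq] at e1 e2
      exact Fin.ext (by omega)
  have fbij : Function.Bijective f :=
    (Fintype.bijective_iff_injective_and_card f).2 ⟨finj, by simp [hα]⟩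
  have fmem : ∀ (k : Fin 5) (c : Fin 4) (n : Fin 21), f n ∈ W k c ↔ n.1 = k.1 ∨ (5 ≤ n.1 ∧
      F k ⟨(n.1 - 5) / 4 % 4, Nat.mod_lt _ (by norm_num)⟩ ⟨(n.1 - 5) % 4, Nat.mod_lt _ (by norm_num)⟩ = c) := by
    intro k c n
    simp only [f]
    split_ifs with h
    · constructor
      · intro hm
        exact Or.inl (congrArg Fin.val (C.Pinj (meet_eq hL hα (hWL k c) C.hl
          (fun e => baseOut k c (e ▸ hWb k c)) hm (hP _) (hWP k c) (hP k))))
      · rintro (e | ⟨e, -⟩)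
        · rw [show (⟨n.1, h⟩ : Fin 5) = k from Fin.ext e]; exact hWP k c
        · omega
    · rw [hWiff]
      exact ⟨fun e => Or.inr ⟨by omega, e⟩, fun e => e.elim (fun e' => absurd (e' ▸ k.2) h) And.right⟩
  have fl : ∀ n, f n ∈ C.l ↔ n.1 < 5 := fun n => by
    simp only [f]
    split_ifs with h
    · exact ⟨fun _ => h, fun _ => hP _⟩
    · exact ⟨fun hm => absurd hm (qOut _ _), fun hh => absurd hh h⟩
  have qa : ∀ j, q 0 j = C.a j := by
    intro j
    have h1 : U 0 = C.A := join_eq hL (hUL 0) C.hA (by intro e; exact C.bOut 0 (e ▸ hP 0)) (hUP 0) (hUb 0) hPA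
      (C.zero ▸ haA 0)
    exact meet_eq hL hα (hUL 0) (hVL j) (hUV 0 j) (hqU 0 j) (hqV 0 j) (h1 ▸ haA j) (hVa j)
  refine ⟨F, fun i j => by simpa using hF 0 i j, fun i j => by simpa using hF 1 i j, ?_, ?_, ?_,
    Equiv.ofBijective f fbij, fun s => ⟨fun hs => ?_, ?_⟩⟩
  · intro k hk j
    have h0 : k ≠ 0 := fun e => by subst e; simp at hk
    refine (hWiff k j 0 j).1 ?_
    rw [qa]
    simpa [base, h0] using hWb k j
  · intro k
    obtain ⟨w, hw, hPw, hbw, haw⟩ := C.dir k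
    set K : Fin 5 := ⟨k.1 + 2, by omega⟩
    have h0 : K ≠ 0 := fun e => by simpa [K] using congrArg Fin.val e
    have hV0 : V 0 = C.B := join_eq hL (hVL 0) C.hB (by intro e; exact C.aOut 0 (e ▸ hP 1)) (hVP 0) (hVa 0) hPB
      (C.zero.symm ▸ hbB 0)
    have e10 : q 1 0 = C.b 1 :=
      meet_eq hL hα (hUL 1) (hVL 0) (hUV 1 0) (hqU 1 0) (hqV 1 0) (hUb 1) (hV0 ▸ hbB 1)
    have hWK : W K ⟨k.1 + 1, by omega⟩ = w := join_eq hL (hWL _ _) hw (fun e => C.aOut _ (e ▸ hP K))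
      (hWP _ _) (by simpa [base, h0] using hWb K ⟨k.1 + 1, by omega⟩) hPw haw
    exact congrArg Fin.val ((hWiff K ⟨k.1 + 1, by omega⟩ 1 0).1 (by rw [e10, hWK]; exact hbw))
  · intro k k' hne i j i' j' e e'
    by_contra hcon
    have hqne : q i j ≠ q i' j' := fun h => hcon (qinj _ _ _ _ h)
    have hw := join_eq hL (hWL k (F k i j)) (hWL k' (F k' i j)) hqne (hWq k i j) ((hWiff k _ i' j').2 e.symm)
      (hWq k' i j) ((hWiff k' _ i' j').2 e'.symm)
    exact hne (C.Pinj (meet_eq hL hα (hWL k (F k i j)) C.hl (fun h => baseOut k _ (h ▸ hWb k _))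
      (hWP k _) (hP k) (hw ▸ hWP k' _) (hP k')))
  · by_cases hsl : s = C.l
    · exact Or.inl fun n => hsl ▸ fl n
    obtain ⟨x, ⟨hxs, hxl⟩, -⟩ := meet hL hα hs C.hl hsl
    obtain ⟨k, rfl⟩ := (C.memL x).1 hxl
    refine Or.inr ⟨k, ?_⟩
    have hc : ∃ c, base k c ∈ s := by
      by_cases h0 : k = 0
      · subst h0
        have hne : s ≠ C.B := fun h =>
          absurd (C.Pinj (meet_eq hL hα C.hB C.hl hBl (h ▸ hxs) (hP 0) hPB (hP 1))) (by decide)
        obtain ⟨y, ⟨hys, hyB⟩, -⟩ := meet hL hα hs C.hB hne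
        rcases (C.memB y).1 hyB with e | ⟨c, e⟩
        · subst e
          exact absurd (C.Pinj (meet_eq hL hα hs C.hl hsl hxs (hP 0) hys (hP 1))) (by decide)
        · exact ⟨c, by simpa [base] using e ▸ hys⟩
      · obtain ⟨y, ⟨hys, hyA⟩, -⟩ := meet hL hα hs C.hA (fun h => hPa k h0 (h ▸ hxs))
        rcases (C.memA y).1 hyA with e | ⟨c, e⟩
        · subst e
          exact absurd (C.Pinj (meet_eq hL hα hs C.hl hsl hxs (hP k) hys (hP 0))) h0
        · exact ⟨c, by simpa [base, h0] using e ▸ hys⟩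
    obtain ⟨c, hc⟩ := hc
    refine ⟨c, fun n => ?_⟩
    rw [join_eq hL hs (hWL k c) (by intro e; exact baseOut k c (e ▸ hP k)) hxs hc (hWP k c) (hWb k c)]
    exact fmem k c n
  · rintro (h | ⟨k, c, h⟩)
    · rw [show s = C.l from ext fun x => by
        obtain ⟨n, rfl⟩ := fbij.2 x
        exact (h n).trans (fl n).symm]
      exact C.hl
    · rw [show s = W k c from ext fun x => by
        obtain ⟨n, rfl⟩ := fbij.2 x
        exact (h n).trans (fmem k c n).symm]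
      exact hWL k c

/-- The lines of the standard plane. -/
def stdSets : Set (Finset (Fin 21)) := {s | ∃ m ∈ stdLines, toSet m = s}

theorem testBit_line (P : ℕ → Prop) [DecidablePred P] : ∀ (L : List ℕ) (acc j : ℕ),
    (L.foldl (fun acc n => if P n then acc ||| 1 <<< n else acc) acc).testBit j =
      (acc.testBit j || L.any fun n => decide (P n) && n == j)
  | [], _, _ => by simp
  | n :: L, acc, j => by
    rw [List.foldl_cons, testBit_line P L, List.any_cons]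
    by_cases h : P n
    · rw [if_pos h, decide_eq_true h, Bool.true_and, Nat.testBit_or, Nat.one_shiftLeft, Nat.testBit_two_pow,
        Bool.or_assoc, beq_eq_decide]
    · rw [if_neg h, decide_eq_false h]; simp

/-- Every plane is the standard one. -/
theorem exists_std (hL : IsSteinerSystem 2 5 L) (hα : Fintype.card α = 21) :
    ∃ e : Fin 21 ≃ α, ∀ s : Finset (Fin 21), s.image e ∈ L ↔ s ∈ stdSets := by
  classical
  obtain ⟨C⟩ := exists_coords hL hα
  obtain ⟨F, hF0, hF1, hrow0, h10, horth, e, he⟩ := exists_squares hL hα C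
  let sq : Fin 5 → List (List ℕ) := fun k => List.ofFn fun i => List.ofFn fun j => (F k i j).1
  let T : List (List (List ℕ)) := [sq 2, sq 3, sq 4]
  have hget : ∀ (k : Fin 5) (i j : Fin 4), ((sq k).getD i.1 []).getD j.1 0 = (F k i j).1 := fun k i j => by
    have h1 : (sq k).getD i.1 [] = List.ofFn fun j => (F k i j).1 := by
      simp only [sq]
      rw [List.getD_eq_getElem _ _ (by simp), List.getElem_ofFn]
    rw [h1, List.getD_eq_getElem _ _ (by simp), List.getElem_ofFn]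
  have rowinj : ∀ k : Fin 5, 2 ≤ k.1 → ∀ i, Function.Injective (F k i) := fun k hk i j j' h =>
    (horth k 0 (fun e => by subst e; simp at hk) i j i j' h (by rw [hF0, hF0])).2
  have hsq : ∀ (k : Fin 5) (s : ℕ), 2 ≤ k.1 → (F k 1 0).1 = s → sq k ∈ squares s := by
    intro k s hk hs
    have e0 : sq k = [[0, 1, 2, 3], List.ofFn fun j => (F k 1 j).1, List.ofFn fun j => (F k 2 j).1,
        List.ofFn fun j => (F k 3 j).1] := by
      simp only [sq, List.ofFn_succ, List.ofFn_zero, hrow0 k hk]; rfl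
    refine List.mem_filter.2 ⟨?_, ?_⟩
    · rw [e0]
      refine List.mem_flatMap.2 ⟨_, rows4_complete _ (rowinj k hk 1), List.mem_flatMap.2
        ⟨_, rows4_complete _ (rowinj k hk 2), ?_⟩⟩
      rw [if_pos (by rw [List.getD_eq_getElem _ _ (by simp), List.getElem_ofFn]; exact hs)]
      exact List.mem_map.2 ⟨_, rows4_complete _ (rowinj k hk 3), rfl⟩
    · simp only [colsOK, List.all_eq_true, List.mem_range, decide_eq_true_eq]
      intro j hj
      refine List.Nodup.map_on (fun i hi i' hi' h => ?_) List.nodup_range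
      simp only [List.mem_range] at hi hi'
      rw [hget k ⟨i, hi⟩ ⟨j, hj⟩, hget k ⟨i', hi'⟩ ⟨j, hj⟩] at h
      exact congrArg Fin.val (horth k 1 (fun e => by subst e; simp at hk) _ _ _ _ (Fin.ext h)
        (by rw [hF1, hF1])).1
  have hor : ∀ k k' : Fin 5, k ≠ k' → orthOK (sq k) (sq k') = true := by
    intro k k' hne
    simp only [orthOK, decide_eq_true_eq]
    refine List.Nodup.map_on (fun n hn n' hn' h => ?_) List.nodup_range
    simp only [List.mem_range] at hn hn'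
    rw [hget k ⟨n / 4, by omega⟩ ⟨n % 4, by omega⟩, hget k' ⟨n / 4, by omega⟩ ⟨n % 4, by omega⟩,
      hget k ⟨n' / 4, by omega⟩ ⟨n' % 4, by omega⟩, hget k' ⟨n' / 4, by omega⟩ ⟨n' % 4, by omega⟩] at h
    have b1 := (F k' ⟨n / 4, by omega⟩ ⟨n % 4, by omega⟩).2
    have b2 := (F k' ⟨n' / 4, by omega⟩ ⟨n' % 4, by omega⟩).2
    obtain ⟨h1, h2⟩ := horth k k' hne ⟨n / 4, by omega⟩ ⟨n % 4, by omega⟩ ⟨n' / 4, by omega⟩ ⟨n' % 4, by omega⟩
      (Fin.ext (by omega)) (Fin.ext (by omega))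
    simp only [Fin.mk.injEq] at h1 h2
    omega
  have h := triples_ok
  simp only [List.all_eq_true] at h
  have h' := h _ (hsq 2 1 (by decide) (h10 0)) _ (hsq 3 2 (by decide) (h10 1))
  rw [hor 2 3 (by decide), Bool.not_true, Bool.false_or] at h'
  have h'' := List.all_eq_true.1 h' _ (hsq 4 3 (by decide) (h10 2))
  rw [hor 2 4 (by decide), hor 3 4 (by decide), Bool.not_true, Bool.false_or, Bool.false_or,
    List.any_eq_true] at h''
  obtain ⟨t, -, ht⟩ := h''
  simp only [Bool.and_eq_true, List.all_eq_true, List.any_eq_true, List.contains_eq_mem, decide_eq_true_eq,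
    beq_iff_eq] at ht
  obtain ⟨⟨hperm, hinto⟩, honto⟩ := ht
  have hbit : ∀ (k : Fin 5) (c : Fin 4) (n : Fin 21),
      ((List.range 21).foldl (fun acc n => if n = k.1 ∨ (5 ≤ n ∧ dirVal T k.1 ((n - 5) / 4) ((n - 5) % 4) = c.1)
        then acc ||| 1 <<< n else acc) 0).testBit n.1 = true ↔ n.1 = k.1 ∨ (5 ≤ n.1 ∧
        F k ⟨(n.1 - 5) / 4 % 4, Nat.mod_lt _ (by norm_num)⟩ ⟨(n.1 - 5) % 4, Nat.mod_lt _ (by norm_num)⟩ = c) := by
    intro k c n
    rw [testBit_line, Nat.zero_testBit, Bool.false_or, List.any_eq_true]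
    have hd : ∀ i j : Fin 4, dirVal T k.1 i.1 j.1 = (F k i j).1 := by
      intro i j
      fin_cases k
      · simp [dirVal, hF0]
      · simp [dirVal, hF1]
      · simpa [dirVal, T] using hget 2 i j
      · simpa [dirVal, T] using hget 3 i j
      · simpa [dirVal, T] using hget 4 i j
    have hdiv : (n.1 - 5) / 4 % 4 = (n.1 - 5) / 4 := by have := n.2; omega
    have hd' := hd ⟨(n.1 - 5) / 4 % 4, Nat.mod_lt _ (by norm_num)⟩ ⟨(n.1 - 5) % 4, Nat.mod_lt _ (by norm_num)⟩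
    replace hd' : dirVal T k.1 ((n.1 - 5) / 4) ((n.1 - 5) % 4) = (F k ⟨(n.1 - 5) / 4 % 4, Nat.mod_lt _ (by norm_num)⟩
        ⟨(n.1 - 5) % 4, Nat.mod_lt _ (by norm_num)⟩).1 := by
      rw [← hd']; congr 1; exact hdiv.symm
    constructor
    · rintro ⟨m, -, hm⟩
      simp only [Bool.and_eq_true, decide_eq_true_eq, beq_iff_eq] at hm
      obtain ⟨hm1, rfl⟩ := hm
      exact hm1.imp_right fun ⟨h5, hv⟩ => ⟨h5, Fin.ext (hd'.symm.trans hv)⟩
    · intro hn
      refine ⟨n.1, List.mem_range.2 n.2, ?_⟩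
      simp only [Bool.and_eq_true, decide_eq_true_eq, beq_iff_eq, and_true]
      exact hn.imp_right fun ⟨h5, hv⟩ => ⟨h5, hd'.trans (congrArg Fin.val hv)⟩
  have hmodel : ∀ s, s ∈ L ↔ ∃ m ∈ modelLines T, ∀ n : Fin 21, e n ∈ s ↔ m.testBit n.1 = true := by
    intro s
    rw [he]
    constructor
    · rintro (hs | ⟨k, c, hs⟩)
      · refine ⟨31, List.mem_cons_self, fun n => ?_⟩
        rw [hs]; revert n; decide
      · exact ⟨_, List.mem_cons_of_mem _ (List.mem_flatMap.2 ⟨k.1, List.mem_range.2 k.2,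
          List.mem_map.2 ⟨c.1, List.mem_range.2 c.2, rfl⟩⟩), fun n => (hs n).trans (hbit k c n).symm⟩
    · rintro ⟨m, hm, hs⟩
      rcases List.mem_cons.1 hm with rfl | hm
      · refine Or.inl fun n => ?_
        rw [hs]; revert n; decide
      · obtain ⟨k, hk, hm⟩ := List.mem_flatMap.1 hm
        obtain ⟨c, hc, rfl⟩ := List.mem_map.1 hm
        exact Or.inr ⟨⟨k, List.mem_range.1 hk⟩, ⟨c, List.mem_range.1 hc⟩,
          fun n => (hs n).trans (hbit ⟨k, List.mem_range.1 hk⟩ ⟨c, List.mem_range.1 hc⟩ n)⟩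
  refine ⟨(perm t hperm).symm.trans e, fun s => ?_⟩
  have hmem : ∀ n, e n ∈ s.image ((perm t hperm).symm.trans e) ↔ perm t hperm n ∈ s := fun n => by
    rw [mem_image]
    exact ⟨fun ⟨a, ha, h⟩ => by
      have := e.injective (show e ((perm t hperm).symm a) = e n from h)
      rwa [← this, Equiv.apply_symm_apply], fun h => ⟨_, h, by simp⟩⟩
  rw [hmodel]
  constructor
  · rintro ⟨m, hm, hs⟩
    refine ⟨imgM t m, hinto m hm, ?_⟩
    rw [← toSet_img t hperm]
    ext j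
    obtain ⟨n, rfl⟩ := (perm t hperm).surjective j
    rw [(perm t hperm).injective.mem_finset_image, mem_toSet, ← hs, hmem]
  · rintro ⟨l, hl, rfl⟩
    obtain ⟨m, hm, hml⟩ := honto l hl
    refine ⟨m, hm, fun n => ?_⟩
    rw [hmem, ← hml, ← toSet_img t hperm, (perm t hperm).injective.mem_finset_image, mem_toSet]

end Cfsg.Agent.PlaneFour.Coord
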