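import Cfsg.Agent.Lib.PlaneFour.Data

/-!
Masks on 21 points, tables of permutations, and the models given by three Latin squares.
-/

set_option autoImplicit false
set_option maxRecDepth 10000

namespace Cfsg.Agent.PlaneFour.Model

open Cfsg.Agent.PlaneFour.Data Finset

/-- Entry of a table. -/
def at5 (t i : ℕ) : ℕ := (t >>> (5 * i)) % 32

/-- The image of a mask. -/
def imgM (t m : ℕ) : ℕ :=
  (List.range 21).foldl (fun acc i => if m.testBit i then acc ||| 1 <<< at5 t i else acc) 0

theorem testBit_foldl_img (t m : ℕ) : ∀ (L : List ℕ) (acc j : ℕ),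
    (L.foldl (fun acc i => if m.testBit i then acc ||| 1 <<< at5 t i else acc) acc).testBit j =
      (acc.testBit j || L.any fun i => m.testBit i && at5 t i == j)
  | [], _, _ => by simp
  | i :: L, acc, j => by
    rw [List.foldl_cons, testBit_foldl_img t m L, List.any_cons]
    by_cases h : m.testBit i = true
    · rw [if_pos h, h, Bool.true_and, Nat.testBit_or, Nat.one_shiftLeft, Nat.testBit_two_pow,
        Bool.or_assoc, beq_eq_decide]
    · rw [if_neg h, Bool.eq_false_iff.2 h]; simp

/-- The points of a mask. -/
def toSet (m : ℕ) : Finset (Fin 21) := univ.filter fun i => m.testBit i.1 = true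

@[simp] theorem mem_toSet {m : ℕ} {i : Fin 21} : i ∈ toSet m ↔ m.testBit i.1 = true := by simp [toSet]

/-- A table of a permutation. -/
def permOK (t : ℕ) : Bool :=
  ((List.range 21).all fun i => decide (at5 t i < 21)) && decide (((List.range 21).map (at5 t)).Nodup)

/-- A table of a collineation of the standard plane. -/
def collOK (t : ℕ) : Bool := permOK t && stdLines.all fun m => stdLines.contains (imgM t m)

/-- The permutation of a table. -/
noncomputable def perm (t : ℕ) (h : permOK t = true) : Equiv.Perm (Fin 21) :=
  Equiv.ofBijective (fun i => ⟨at5 t i.1, by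
      simp only [permOK, Bool.and_eq_true, List.all_eq_true, List.mem_range, decide_eq_true_eq] at h
      exact h.1 _ i.2⟩)
    (Finite.injective_iff_bijective.1 fun a b e => by
      simp only [permOK, Bool.and_eq_true, decide_eq_true_eq] at h
      have h2 := List.inj_on_of_nodup_map h.2 (List.mem_range.2 a.2) (List.mem_range.2 b.2)
        (congrArg Fin.val e)
      exact Fin.ext h2)

theorem perm_val (t : ℕ) (h : permOK t = true) (i : Fin 21) : ((perm t h) i).1 = at5 t i.1 := rfl

theorem toSet_img (t : ℕ) (h : permOK t = true) (m : ℕ) :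
    (toSet m).image (perm t h) = toSet (imgM t m) := by
  ext j
  rw [mem_image, mem_toSet, imgM, testBit_foldl_img, Nat.zero_testBit, Bool.false_or, List.any_eq_true]
  constructor
  · rintro ⟨i, hi, rfl⟩
    exact ⟨i.1, List.mem_range.2 i.2, by rw [mem_toSet] at hi; simp [hi, perm_val]⟩
  · rintro ⟨i, hi, e⟩
    simp only [Bool.and_eq_true, beq_iff_eq] at e
    exact ⟨⟨i, List.mem_range.1 hi⟩, mem_toSet.2 e.1, Fin.ext (by rw [perm_val]; exact e.2)⟩

/-- The arrangements of four symbols. -/
def rows4 : List (List ℕ) :=
  [[0, 1, 2, 3], [0, 1, 3, 2], [0, 2, 1, 3], [0, 2, 3, 1], [0, 3, 1, 2], [0, 3, 2, 1],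
   [1, 0, 2, 3], [1, 0, 3, 2], [1, 2, 0, 3], [1, 2, 3, 0], [1, 3, 0, 2], [1, 3, 2, 0],
   [2, 0, 1, 3], [2, 0, 3, 1], [2, 1, 0, 3], [2, 1, 3, 0], [2, 3, 0, 1], [2, 3, 1, 0],
   [3, 0, 1, 2], [3, 0, 2, 1], [3, 1, 0, 2], [3, 1, 2, 0], [3, 2, 0, 1], [3, 2, 1, 0]]

theorem rows4_complete : ∀ r : Fin 4 → Fin 4, Function.Injective r →
    (List.ofFn fun j => (r j).1) ∈ rows4 := by decide +kernel

/-- Columns without repetition. -/
def colsOK (L : List (List ℕ)) : Bool :=
  (List.range 4).all fun j => decide (((List.range 4).map fun i => (L.getD i []).getD j 0).Nodup)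

/-- The squares with standard first row and given first entry of the second row. -/
def squares (s : ℕ) : List (List (List ℕ)) :=
  (rows4.flatMap fun a => rows4.flatMap fun b => if a.getD 0 0 = s then rows4.map fun c => [[0, 1, 2, 3], a, b, c] else []).filter colsOK

/-- Orthogonality. -/
def orthOK (A B : List (List ℕ)) : Bool :=
  decide (((List.range 16).map fun n => 4 * (A.getD (n / 4) []).getD (n % 4) 0 +
    (B.getD (n / 4) []).getD (n % 4) 0).Nodup)

/-- The class of a point with respect to a direction. -/
def dirVal (T : List (List (List ℕ))) (k i j : ℕ) : ℕ :=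
  if k = 0 then i else if k = 1 then j else ((T.getD (k - 2) []).getD i []).getD j 0

/-- The lines of the model of three squares. -/
def modelLines (T : List (List (List ℕ))) : List ℕ :=
  31 :: (List.range 5).flatMap fun k => (List.range 4).map fun c =>
    (List.range 21).foldl (fun acc n =>
      if n = k ∨ (5 ≤ n ∧ dirVal T k ((n - 5) / 4) ((n - 5) % 4) = c) then acc ||| 1 <<< n else acc) 0

/-- Every admissible triple of squares gives the standard plane after relabelling. -/
theorem triples_ok : (squares 1).all (fun A => (squares 2).all fun B => !orthOK A B ||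
    (squares 3).all fun C => !orthOK A C || !orthOK B C ||
      relabel.any fun t => permOK t && ((modelLines [A, B, C]).all fun m => stdLines.contains (imgM t m)) &&
        stdLines.all fun l => (modelLines [A, B, C]).any fun m => imgM t m == l) = true := by
  decide +kernel

end Cfsg.Agent.PlaneFour.Model
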